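import Mathlib

set_option autoImplicit false
universe u

namespace H5TFCurv
open PowerSeries

variable {k : Type u} [Field k]

lemma X_pow_dvd_iff_le_order (n : ℕ) (f : PowerSeries k) : X ^ n ∣ f ↔ (n : ℕ∞) ≤ order f := by
  rw [PowerSeries.X_pow_dvd_iff]
  constructor
  · intro h
    apply PowerSeries.le_order
    intro i hi
    exact h i (by exact_mod_cast hi)
  · intro h m hm
    apply PowerSeries.coeff_of_lt_order
    exact lt_of_lt_of_le (by exact_mod_cast hm) h

variable (A : Subalgebra k (PowerSeries k))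
  (hcl : ∀ f : PowerSeries k, (∀ n : ℕ, ∃ g ∈ A, (n : ℕ∞) ≤ PowerSeries.order (f - g)) → f ∈ A)

include hcl in
/-- elements of `A` with constant coefficient one are units of `A` -/
lemma exists_inv_mem (z : PowerSeries k) (hz : z ∈ A) (hz1 : constantCoeff z = 1) :
    ∃ w ∈ A, z * w = 1 := by
  have hu : IsUnit z := by
    rw [PowerSeries.isUnit_iff_constantCoeff, hz1]; exact isUnit_one
  obtain ⟨w, hw⟩ := hu.exists_right_inv
  refine ⟨w, ?_, hw⟩
  apply hcl
  intro n
  set q : PowerSeries k := 1 - z with hq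
  have hqA : q ∈ A := A.sub_mem A.one_mem hz
  have hq0 : X ∣ q := by
    rw [PowerSeries.X_dvd_iff, hq, map_sub, hz1, map_one, sub_self]
  refine ⟨∑ i ∈ Finset.range n, q ^ i, A.sum_mem (fun i _ => A.pow_mem hqA i), ?_⟩
  have h1 : z * ∑ i ∈ Finset.range n, q ^ i = 1 - q ^ n := by
    have : z = 1 - q := by rw [hq]; ring
    rw [this, mul_neg_geom_sum]
  have h2 : w - ∑ i ∈ Finset.range n, q ^ i = w * q ^ n := by
    have : w * (z * ∑ i ∈ Finset.range n, q ^ i) = w * (1 - q ^ n) := by rw [h1]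
    have hwz : w * z = 1 := by rw [mul_comm]; exact hw
    rw [← mul_assoc, hwz, one_mul] at this
    rw [this]; ring
  rw [h2, ← X_pow_dvd_iff_le_order]
  exact Dvd.dvd.mul_left (pow_dvd_pow_of_dvd hq0 n) w

/-- the ideal of elements of positive order -/
def J : Ideal A where
  carrier := {a | constantCoeff (a : PowerSeries k) = 0}
  zero_mem' := by simp
  add_mem' := by
    intro a b ha hb
    simp only [Set.mem_setOf_eq] at ha hb ⊢
    rw [Subalgebra.coe_add, map_add, ha, hb, add_zero]
  smul_mem' := by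
    intro c a ha
    simp only [Set.mem_setOf_eq] at ha ⊢
    rw [smul_eq_mul, Subalgebra.coe_mul, map_mul, ha, mul_zero]

lemma mem_J (a : A) : a ∈ J A ↔ constantCoeff (a : PowerSeries k) = 0 := Iff.rfl

include hcl in
lemma J_le_jacobson : J A ≤ Ideal.jacobson ⊥ := by
  intro x hx
  rw [Ideal.mem_jacobson_bot]
  intro y
  have h1 : constantCoeff ((x * y + 1 : A) : PowerSeries k) = 1 := by
    rw [Subalgebra.coe_add, Subalgebra.coe_mul, Subalgebra.coe_one, map_add, map_mul, map_one,
      (mem_J A x).mp hx, zero_mul, zero_add]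
  obtain ⟨w, hwA, hw⟩ := exists_inv_mem A hcl _ (x * y + 1 : A).2 h1
  refine IsUnit.of_mul_eq_one (⟨w, hwA⟩ : A) ?_
  apply Subtype.ext
  rw [Subalgebra.coe_mul, Subalgebra.coe_one]
  exact hw

end H5TFCurv
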