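import Mathlib
import Groth.Agent.Lib.Helper5.TFCurv.Jac

set_option autoImplicit false
universe u

namespace H5TFCurv
open PowerSeries

variable {k : Type u} [Field k]

lemma not_finite_powerSeries : ¬ Module.Finite k (PowerSeries k) := by
  intro h
  have hinj : Function.Injective (Polynomial.coeToPowerSeries.algHom k : Polynomial k →ₐ[k] PowerSeries k) :=
    Polynomial.coe_injective k
  have : Module.Finite k (Polynomial k) :=
    Module.Finite.of_injective (Polynomial.coeToPowerSeries.algHom k :
      Polynomial k →ₐ[k] PowerSeries k).toLinearMap hinj
  exact Polynomial.not_finite this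

variable (A : Subalgebra k (PowerSeries k))

/-- there is a non-zero element of positive order in `A` when `k⟦X⟧` is finite over `A` -/
lemma exists_ne_zero_mem_J (hA : Module.Finite ↥A (PowerSeries k)) :
    ∃ a : A, a ∈ J A ∧ a ≠ 0 := by
  by_contra hcon
  push Not at hcon
  apply not_finite_powerSeries (k := k)
  -- every element of `A` is a constant
  have hconst : ∀ a : A, (a : PowerSeries k) = C (constantCoeff (a : PowerSeries k)) := by
    intro a
    have hmem : C (constantCoeff (a : PowerSeries k)) ∈ A := by
      have : (C (constantCoeff (a : PowerSeries k)) : PowerSeries k) =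
          algebraMap k (PowerSeries k) (constantCoeff (a : PowerSeries k)) := rfl
      rw [this]
      exact A.algebraMap_mem _
    have h1 : (a - ⟨_, hmem⟩ : A) ∈ J A := by
      rw [mem_J, Subalgebra.coe_sub, map_sub]
      simp
    have h2 := hcon _ h1
    have h3 := congrArg (Subtype.val) h2
    rw [Subalgebra.coe_sub, Subalgebra.coe_zero] at h3
    exact sub_eq_zero.mp h3
  obtain ⟨S, hS⟩ := hA.fg_top
  refine ⟨⟨S, ?_⟩⟩
  rw [eq_top_iff]
  intro b hbtop
  clear hbtop
  have hb : b ∈ Submodule.span ↥A (S : Set (PowerSeries k)) := by rw [hS]; trivial
  induction hb using Submodule.span_induction with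
  | mem x hx => exact Submodule.subset_span hx
  | zero => exact Submodule.zero_mem _
  | add x y _ _ hx hy => exact Submodule.add_mem _ hx hy
  | smul a x _ hx =>
    have : a • x = (constantCoeff (a : PowerSeries k)) • x := by
      change (a : PowerSeries k) * x = _
      rw [hconst a, PowerSeries.smul_eq_C_mul]
      simp
    rw [this]
    exact Submodule.smul_mem _ _ hx

end H5TFCurv
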