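import Mathlib
import Groth.Agent.Lib.Helper5.TFCurv.NeZero

set_option autoImplicit false
universe u

namespace H5TFCurv
open PowerSeries

variable {k : Type u} [Field k] (A : Subalgebra k (PowerSeries k))

/-- the `A`-submodule `X^c · k⟦X⟧` -/
noncomputable def T (c : ℕ) : Submodule ↥A (PowerSeries k) :=
  LinearMap.range (LinearMap.mulLeft ↥A (X ^ c : PowerSeries k))

lemma mem_T (c : ℕ) (f : PowerSeries k) : f ∈ T A c ↔ X ^ c ∣ f := by
  rw [T, LinearMap.mem_range]
  constructor
  · rintro ⟨g, rfl⟩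
    exact ⟨g, rfl⟩
  · rintro ⟨g, rfl⟩
    exact ⟨g, rfl⟩

lemma T_fg (hA : Module.Finite ↥A (PowerSeries k)) (c : ℕ) : (T A c).FG := by
  rw [T, LinearMap.range_eq_map]
  exact Submodule.FG.map _ hA.fg_top

/-- successive approximation by elements of `N` -/
lemma approx (N : Submodule ↥A (PowerSeries k)) (c : ℕ)
    (hN : ∀ n : ℕ, c ≤ n → ∃ f ∈ N, PowerSeries.order f = n)
    (f : PowerSeries k) (hf : X ^ c ∣ f) (m : ℕ) :
    ∃ g ∈ N, X ^ (c + m) ∣ (f - g) := by
  induction m with
  | zero => exact ⟨0, N.zero_mem, by simpa using hf⟩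
  | succ m ih =>
    obtain ⟨g, hgN, hg⟩ := ih
    obtain ⟨h, hhN, hh⟩ := hN (c + m) (Nat.le_add_right c m)
    have hh0 : coeff (c + m) h ≠ 0 := (PowerSeries.order_eq_nat.mp hh).1
    have hhdvd : X ^ (c + m) ∣ h := by
      rw [X_pow_dvd_iff_le_order, hh]
    set lam : k := coeff (c + m) (f - g) / coeff (c + m) h with hlam
    have hmem : (algebraMap k (PowerSeries k) lam) ∈ A := A.algebraMap_mem lam
    refine ⟨g + (⟨_, hmem⟩ : A) • h, N.add_mem hgN (N.smul_mem _ hhN), ?_⟩
    have e1 : ((⟨_, hmem⟩ : A) • h : PowerSeries k) = C lam * h := rfl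
    rw [e1, PowerSeries.X_pow_dvd_iff]
    intro i hi
    rcases Nat.lt_succ_iff_lt_or_eq.mp (by omega : i < (c + m) + 1) with hlt | heq
    · have h1 := (PowerSeries.X_pow_dvd_iff.mp hg) i hlt
      have h2 := (PowerSeries.X_pow_dvd_iff.mp hhdvd) i hlt
      have : f - (g + C lam * h) = (f - g) - C lam * h := by ring
      rw [this, map_sub, h1, PowerSeries.coeff_C_mul, h2, mul_zero, sub_zero]
    · subst heq
      have : f - (g + C lam * h) = (f - g) - C lam * h := by ring
      rw [this, map_sub, PowerSeries.coeff_C_mul, hlam, div_mul_cancel₀ _ hh0, sub_self]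

end H5TFCurv
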