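import Mathlib
import Groth.Agent.Lib.Helper5.TFCurv.Approx

set_option autoImplicit false
universe u

namespace H5TFCurv
open PowerSeries

variable {k : Type u} [Field k] (A : Subalgebra k (PowerSeries k))
  (hcl : ∀ f : PowerSeries k, (∀ n : ℕ, ∃ g ∈ A, (n : ℕ∞) ≤ PowerSeries.order (f - g)) → f ∈ A)

include hcl in
theorem T_le (hA : Module.Finite ↥A (PowerSeries k)) (N : Submodule ↥A (PowerSeries k)) (c : ℕ)
    (hN : ∀ n : ℕ, c ≤ n → ∃ f ∈ N, PowerSeries.order f = n) : T A c ≤ N := by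
  obtain ⟨a, haJ, ha0⟩ := exists_ne_zero_mem_J A hA
  apply Submodule.le_of_le_smul_of_le_jacobson_bot (T_fg A hA c) (J_le_jacobson A hcl)
  intro f hf
  rw [mem_T] at hf
  have ha0' : (a : PowerSeries k) ≠ 0 := fun h => ha0 (Subtype.ext h)
  obtain ⟨r, hr⟩ : ∃ r : ℕ, order (a : PowerSeries k) = r :=
    ⟨(order (a : PowerSeries k)).toNat, (coe_toNat_order ha0').symm⟩
  obtain ⟨g, hgN, hg⟩ := approx A N c hN f hf r
  rw [Submodule.mem_sup]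
  refine ⟨g, hgN, f - g, ?_, by ring⟩
  obtain ⟨q, hq⟩ := hg
  have hdvd : X ^ r ∣ (a : PowerSeries k) := by rw [X_pow_dvd_iff_le_order, hr]
  obtain ⟨u, hu⟩ := hdvd
  have hu0 : constantCoeff u ≠ 0 := by
    have h1 := (PowerSeries.order_eq_nat.mp hr).1
    rw [hu] at h1
    have h2 := PowerSeries.coeff_X_pow_mul u r 0
    rw [zero_add] at h2
    rw [h2] at h1
    simpa using h1
  have huu : IsUnit u := by
    rw [PowerSeries.isUnit_iff_constantCoeff]; exact isUnit_iff_ne_zero.mpr hu0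
  obtain ⟨v, hv⟩ := huu.exists_right_inv
  have e : f - g = a • (X ^ c * (v * q)) := by
    change f - g = (a : PowerSeries k) * (X ^ c * (v * q))
    rw [hq, hu, pow_add]
    linear_combination (X ^ c * X ^ r * q) * hv.symm
  rw [e]
  apply Submodule.smul_mem_smul haJ
  rw [mem_T]
  exact Dvd.intro _ rfl

theorem main15034 (k : Type u) [Field k] [IsAlgClosed k] (A : Subalgebra k (PowerSeries k))
    (hA : Module.Finite ↥A (PowerSeries k))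
    (hcl : ∀ f : PowerSeries k, (∀ n : ℕ, ∃ g ∈ A, (n : ℕ∞) ≤ PowerSeries.order (f - g)) → f ∈ A)
    (hsing : A ≠ ⊤) (Γ : Set ℕ) (hΓ : ∀ n : ℕ, n ∈ Γ ↔ ∃ f ∈ A, PowerSeries.order f = n)
    (M N : Submodule ↥A (PowerSeries k)) (hMfg : M.FG) (hNfg : N.FG)
    (hM1 : (1 : PowerSeries k) ∈ M) (hN1 : (1 : PowerSeries k) ∈ N) (ΓM ΓN : Set ℕ)
    (hΓM : ∀ n : ℕ, n ∈ ΓM ↔ ∃ f ∈ M, PowerSeries.order f = n)
    (hΓN : ∀ n : ℕ, n ∈ ΓN ↔ ∃ f ∈ N, PowerSeries.order f = n) :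
    (∀ n : ℕ, (∃ u : PowerSeries k, PowerSeries.order u = n ∧ ∀ m ∈ M, u * m ∈ N) →
      ∀ a ∈ ΓM, n + a ∈ ΓN) ∧
    ∀ c' : ℕ, (∀ n : ℕ, c' ≤ n → ∃ u : PowerSeries k, PowerSeries.order u = n ∧
      ∀ m ∈ M, u * m ∈ N) ↔ (∀ n : ℕ, c' ≤ n → ∀ a ∈ ΓM, n + a ∈ ΓN) := by
  have part1 : ∀ n : ℕ, (∃ u : PowerSeries k, PowerSeries.order u = n ∧ ∀ m ∈ M, u * m ∈ N) →
      ∀ a ∈ ΓM, n + a ∈ ΓN := by
    rintro n ⟨u, hu, huM⟩ a ha
    obtain ⟨m, hmM, hm⟩ := (hΓM a).mp ha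
    rw [hΓN]
    refine ⟨u * m, huM m hmM, ?_⟩
    rw [PowerSeries.order_mul, hu, hm]
    rfl
  refine ⟨part1, fun c' => ⟨fun h n hn => part1 n (h n hn), fun h n hn => ?_⟩⟩
  have h0 : (0 : ℕ) ∈ ΓM := by
    rw [hΓM]
    exact ⟨1, hM1, by simp⟩
  have hN' : ∀ n : ℕ, c' ≤ n → ∃ f ∈ N, PowerSeries.order f = n := by
    intro n hn
    have := h n hn 0 h0
    rw [add_zero, hΓN] at this
    exact this
  have hT := T_le A hcl hA N c' hN'
  refine ⟨X ^ n, by simp, fun m _ => hT ?_⟩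
  rw [mem_T]
  exact Dvd.dvd.mul_right (pow_dvd_pow X hn) m

end H5TFCurv
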